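import Mathlib
import Groth.Agent.H3.HenselQF

/-!
# Over a henselian local ring, quasi-finite local rings above the closed point are finite
-/

namespace Groth.Agent.H78.HensQF

open IsLocalRing

universe u

theorem finite_atPrime_of_henselian (R : Type u) [CommRing R] [HenselianLocalRing R]
    (S : Type u) [CommRing S] [Algebra R S] [Algebra.FiniteType R S]
    (q : Ideal S) [q.IsPrime] [q.LiesOver (maximalIdeal R)] [Algebra.QuasiFiniteAt R q] :
    Module.Finite R (Localization.AtPrime q) := by
  obtain ⟨e, he, heq, hfin, huniq⟩ := Groth.Agent.H3.exists_idempotent_of_quasiFiniteAt R S q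
  set T := Localization.AtPrime q
  set J : Ideal S := Ideal.span {1 - e}
  -- `e = 1` in `T`
  have he1 : algebraMap S T e = 1 := by
    have hu : IsUnit (algebraMap S T e) :=
      IsLocalization.map_units (M := q.primeCompl) T ⟨e, heq⟩
    have hi : algebraMap S T e * algebraMap S T e = algebraMap S T e := by
      rw [← map_mul, he.eq]
    exact hu.mul_left_cancel (by rw [hi, mul_one])
  -- the induced map `S ⧸ J → T`
  let F : S ⧸ J →ₐ[R] T := Ideal.Quotient.liftₐ J (IsScalarTower.toAlgHom R S T) (by
    intro a ha
    obtain ⟨c, rfl⟩ := Ideal.mem_span_singleton'.mp ha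
    simp only [IsScalarTower.coe_toAlgHom', map_mul, map_sub, map_one, he1, sub_self, mul_zero])
  have hF : ∀ s : S, F (Ideal.Quotient.mk J s) = algebraMap S T s := fun s => rfl
  -- elements outside `q` are units in `S ⧸ J`
  have hunit : ∀ t : S, t ∉ q → IsUnit (Ideal.Quotient.mk J t) := by
    intro t ht
    by_contra hnu
    obtain ⟨M, hM, htM⟩ := exists_max_ideal_of_mem_nonunits (mem_nonunits_iff.mpr hnu)
    haveI := hM.isPrime
    -- pull back to `S`
    let Q : Ideal S := M.comap (Ideal.Quotient.mk J)
    haveI : Q.IsPrime := Ideal.comap_isPrime _ _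
    have hQmax : Q.IsMaximal := Ideal.comap_isMaximal_of_surjective _ Ideal.Quotient.mk_surjective
    have heQ : e ∉ Q := by
      intro h
      have h1 : (1 - e) ∈ Q := by
        change Ideal.Quotient.mk J (1 - e) ∈ M
        have h0 : Ideal.Quotient.mk J (1 - e) = 0 :=
          Ideal.Quotient.eq_zero_iff_mem.mpr (Ideal.subset_span rfl)
        rw [h0]
        exact M.zero_mem
      have : (1 : S) ∈ Q := by
        have := Q.add_mem h1 h
        simpa using this
      exact (Ideal.IsPrime.ne_top ‹Q.IsPrime›) ((Ideal.eq_top_iff_one Q).mpr this)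
    have hQover : Q.LiesOver (maximalIdeal R) := by
      constructor
      -- `M` lies over the maximal ideal since `S ⧸ J` is integral over `R`
      haveI : Algebra.IsIntegral R (S ⧸ J) := inferInstance
      have hMc : (M.comap (algebraMap R (S ⧸ J))).IsMaximal :=
        Ideal.isMaximal_comap_of_isIntegral_of_isMaximal (R := R) M
      have := eq_maximalIdeal hMc
      rw [← this]
      rfl
    have := huniq Q inferInstance hQover heQ
    apply ht
    rw [← this]
    exact htM
  -- surjectivity
  have hsurj : Function.Surjective F := by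
    intro x
    obtain ⟨s, ⟨t, ht⟩, rfl⟩ := IsLocalization.exists_mk'_eq q.primeCompl x
    obtain ⟨u, hu⟩ := (hunit t ht).exists_right_inv
    refine ⟨Ideal.Quotient.mk J s * u, ?_⟩
    rw [map_mul, hF, IsLocalization.eq_mk'_iff_mul_eq]
    have h1 : F u * algebraMap S T t = 1 := by
      rw [← hF t, ← map_mul, mul_comm, hu, map_one]
    rw [mul_assoc, h1, mul_one]
  exact Module.Finite.of_surjective F.toLinearMap hsurj

end Groth.Agent.H78.HensQF
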