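import Mathlib

/-!
# A local ring whose quasi-finite local algebras above the closed point are finite is henselian
-/

namespace Groth.Agent.H78.HensQF

open IsLocalRing Polynomial

universe u

theorem henselian_of_finite_atPrime (R : Type u) [CommRing R] [IsLocalRing R]
    (h : ∀ (S : Type u) [CommRing S] [Algebra R S] [Algebra.FiniteType R S] (q : Ideal S) [q.IsPrime],
        q.LiesOver (IsLocalRing.maximalIdeal R) → Algebra.QuasiFiniteAt R q →
          Module.Finite R (Localization.AtPrime q)) :
    HenselianLocalRing R := by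
  constructor
  intro f hf a₀ h₁ h₂
  -- `f = (X - a₀) g + f(a₀)`
  obtain ⟨g, hg⟩ : ∃ g : R[X], f = (X - C a₀) * g + C (f.eval a₀) := by
    refine ⟨f /ₘ (X - C a₀), ?_⟩
    have h1 := modByMonic_add_div f (X - C a₀)
    rw [modByMonic_X_sub_C_eq_C_eval] at h1
    rw [add_comm]
    exact h1.symm
  have hga₀ : g.eval a₀ = f.derivative.eval a₀ := by
    have h1 := congrArg (fun p : R[X] => p.derivative.eval a₀) hg
    simp only [derivative_add, derivative_mul, derivative_sub, derivative_X, derivative_C,
      sub_zero, one_mul, eval_add, eval_mul, eval_sub, eval_X, eval_C, sub_self, zero_mul,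
      add_zero] at h1
    exact h1.symm
  have hgu : IsUnit (g.eval a₀) := hga₀ ▸ h₂
  haveI := hf.free_adjoinRoot
  haveI := hf.finite_adjoinRoot
  set S₀ := AdjoinRoot f with hS₀
  -- the character to the residue field
  let χ₀ : S₀ →+* ResidueField R := AdjoinRoot.lift (residue R) (residue R a₀) (by
    rw [Polynomial.eval₂_at_apply]
    exact (residue_eq_zero_iff _).mpr h₁)
  have hχ₀of : ∀ r : R, χ₀ (AdjoinRoot.of f r) = residue R r := fun r => AdjoinRoot.lift_of _
  have hχ₀mk : ∀ p : R[X], χ₀ (AdjoinRoot.mk f p) = residue R (p.eval a₀) := fun p => by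
    change AdjoinRoot.lift _ _ _ (AdjoinRoot.mk f p) = _
    rw [AdjoinRoot.lift_mk, Polynomial.eval₂_at_apply]
  have hχ₀surj : Function.Surjective χ₀ := fun x => by
    obtain ⟨r, rfl⟩ := residue_surjective x
    exact ⟨AdjoinRoot.of f r, hχ₀of r⟩
  let q : Ideal S₀ := RingHom.ker χ₀
  have hmemq : ∀ z : S₀, z ∈ q ↔ χ₀ z = 0 := fun z => RingHom.mem_ker
  haveI hqmax : q.IsMaximal := RingHom.ker_isMaximal_of_surjective χ₀ hχ₀surj
  haveI hqprime : q.IsPrime := hqmax.isPrime
  have hqover : q.LiesOver (maximalIdeal R) := by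
    constructor
    ext r
    rw [Ideal.mem_comap, hmemq, AdjoinRoot.algebraMap_eq, hχ₀of,
      residue_eq_zero_iff]
  haveI : Algebra.FiniteType R S₀ := inferInstance
  have hqf : Algebra.QuasiFiniteAt R q := inferInstance
  haveI hfin : Module.Finite R (Localization.AtPrime q) := h S₀ q hqover hqf
  set T := Localization.AtPrime q with hT
  set I : Ideal T := (maximalIdeal R).map (algebraMap R T) with hI
  have hofT : ∀ r : R, algebraMap S₀ T (AdjoinRoot.of f r) = algebraMap R T r := fun r => by
    rw [IsScalarTower.algebraMap_apply R S₀ T, AdjoinRoot.algebraMap_eq]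
  -- the character on `T`
  have hχunits : ∀ y : q.primeCompl, IsUnit (χ₀ y) := fun y => by
    have : χ₀ y ≠ 0 := fun h0 => y.2 ((hmemq _).mpr h0)
    exact isUnit_iff_ne_zero.mpr this
  let χ : T →+* ResidueField R := IsLocalization.lift (M := q.primeCompl) hχunits
  have hχalg : ∀ z : S₀, χ (algebraMap S₀ T z) = χ₀ z := fun z => IsLocalization.lift_eq _ z
  have hIχ : I ≤ RingHom.ker χ := by
    rw [hI, Ideal.map_le_iff_le_comap]
    intro r hr
    rw [Ideal.mem_comap, RingHom.mem_ker, ← hofT, hχalg, hχ₀of]
    exact (residue_eq_zero_iff _).mpr hr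
  -- Step A
  have hmkg : IsUnit (algebraMap S₀ T (AdjoinRoot.mk f g)) := by
    apply IsLocalization.map_units (M := q.primeCompl) T ⟨AdjoinRoot.mk f g, ?_⟩
    change AdjoinRoot.mk f g ∉ q
    rw [hmemq, hχ₀mk]
    intro h0
    exact (residue_eq_zero_iff _).mp h0 |> fun hm =>
      (IsLocalRing.notMem_maximalIdeal.mpr hgu) hm
  have hroot : algebraMap S₀ T (AdjoinRoot.root f - AdjoinRoot.of f a₀) ∈ I := by
    have h1 : (AdjoinRoot.root f - AdjoinRoot.of f a₀) * AdjoinRoot.mk f g =
        - AdjoinRoot.of f (f.eval a₀) := by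
      have := congrArg (AdjoinRoot.mk f) hg
      rw [AdjoinRoot.mk_self] at this
      simp only [map_add, map_mul, map_sub, AdjoinRoot.mk_X, AdjoinRoot.mk_C] at this
      linear_combination -this
    have h3 := congrArg (algebraMap S₀ T) h1
    rw [map_mul, map_neg, hofT] at h3
    have h4 : algebraMap S₀ T (AdjoinRoot.root f - AdjoinRoot.of f a₀) *
        algebraMap S₀ T (AdjoinRoot.mk f g) ∈ I := by
      rw [h3]
      exact I.neg_mem (Ideal.mem_map_of_mem _ h₁)
    exact (Ideal.mul_unit_mem_iff_mem I hmkg).mp h4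
  -- Step B1: elements of `S₀` are congruent to elements of `R`
  have hcong : ∀ p : R[X], algebraMap S₀ T (AdjoinRoot.mk f p) - algebraMap R T (p.eval a₀) ∈ I := by
    intro p
    obtain ⟨p', hp'⟩ := Polynomial.X_sub_C_dvd_sub_C_eval (a := a₀) (p := p)
    have h1 : AdjoinRoot.mk f p - AdjoinRoot.of f (p.eval a₀) =
        (AdjoinRoot.root f - AdjoinRoot.of f a₀) * AdjoinRoot.mk f p' := by
      have := congrArg (AdjoinRoot.mk f) hp'
      simpa [AdjoinRoot.mk_X, AdjoinRoot.mk_C] using this
    rw [← hofT, ← map_sub, h1, map_mul]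
    exact I.mul_mem_right _ hroot
  -- Step B2: every element of `T` is congruent to an element of `R`
  have hT' : ∀ t : T, ∃ r : R, t - algebraMap R T r ∈ I := by
    intro t
    obtain ⟨z, ⟨s, hs⟩, rfl⟩ := IsLocalization.exists_mk'_eq q.primeCompl t
    obtain ⟨pz, rfl⟩ := AdjoinRoot.mk_surjective z
    obtain ⟨ps, rfl⟩ := AdjoinRoot.mk_surjective s
    have hsu : IsUnit (ps.eval a₀) := by
      have : residue R (ps.eval a₀) ≠ 0 := by
        rw [← hχ₀mk]
        intro h0
        exact hs ((hmemq _).mpr h0)
      rw [Ne, residue_eq_zero_iff] at this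
      exact IsLocalRing.notMem_maximalIdeal.mp this
    obtain ⟨v, hv⟩ := hsu.exists_left_inv
    refine ⟨pz.eval a₀ * v, ?_⟩
    have hsT : IsUnit (algebraMap S₀ T (AdjoinRoot.mk f ps)) :=
      IsLocalization.map_units (M := q.primeCompl) T ⟨_, hs⟩
    rw [← Ideal.mul_unit_mem_iff_mem I hsT, sub_mul, IsLocalization.mk'_spec]
    have e2 : algebraMap R T v * algebraMap R T (ps.eval a₀) = 1 := by
      rw [← map_mul, hv, map_one]
    have : algebraMap S₀ T (AdjoinRoot.mk f pz) -
        algebraMap R T (pz.eval a₀ * v) * algebraMap S₀ T (AdjoinRoot.mk f ps) =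
        (algebraMap S₀ T (AdjoinRoot.mk f pz) - algebraMap R T (pz.eval a₀)) -
        algebraMap R T (pz.eval a₀) * algebraMap R T v *
          (algebraMap S₀ T (AdjoinRoot.mk f ps) - algebraMap R T (ps.eval a₀)) := by
      rw [map_mul]
      linear_combination (-(algebraMap R T (pz.eval a₀))) * e2
    rw [this]
    exact I.sub_mem (hcong pz) (I.mul_mem_left _ (hcong ps))
  -- Step C: Nakayama
  have hsurj : Function.Surjective (algebraMap R T) := by
    have hle : (⊤ : Submodule R T) ≤ Submodule.span R {(1 : T)} := by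
      apply Submodule.le_of_le_smul_of_le_jacobson_bot (I := maximalIdeal R)
        (Module.Finite.fg_top) (IsLocalRing.maximalIdeal_le_jacobson ⊥)
      intro t _
      obtain ⟨r, hr⟩ := hT' t
      have h1 : algebraMap R T r ∈ Submodule.span R {(1 : T)} := by
        rw [Algebra.algebraMap_eq_smul_one]
        exact Submodule.smul_mem _ _ (Submodule.subset_span rfl)
      have h2 : t - algebraMap R T r ∈ maximalIdeal R • (⊤ : Submodule R T) := by
        have : (I.restrictScalars R) = maximalIdeal R • (⊤ : Submodule R T) := by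
          rw [hI, Ideal.smul_top_eq_map]
        rw [← this]
        exact hr
      have : t = algebraMap R T r + (t - algebraMap R T r) := by ring
      rw [this]
      exact Submodule.add_mem_sup h1 h2
    intro t
    have := hle (Submodule.mem_top : t ∈ ⊤)
    obtain ⟨r, rfl⟩ := Submodule.mem_span_singleton.mp this
    exact ⟨r, by rw [Algebra.algebraMap_eq_smul_one]⟩
  -- Step D: injectivity by faithful flatness
  haveI : Module.Flat R T := Module.Flat.trans R S₀ T
  haveI : IsLocalHom (algebraMap R T) := by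
    constructor
    intro r hr
    by_contra hnu
    have hrm : r ∈ maximalIdeal R := (IsLocalRing.mem_maximalIdeal r).mpr hnu
    have : χ (algebraMap R T r) = 0 := by
      rw [← hofT, hχalg, hχ₀of]
      exact (residue_eq_zero_iff _).mpr hrm
    have hu := hr.map χ
    rw [this] at hu
    exact not_isUnit_zero hu
  haveI : Module.FaithfullyFlat R T := Module.FaithfullyFlat.of_flat_of_isLocalHom
  have hinj : Function.Injective (algebraMap R T) := FaithfulSMul.algebraMap_injective R T
  -- Step E
  obtain ⟨a, ha⟩ := hsurj (algebraMap S₀ T (AdjoinRoot.root f))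
  refine ⟨a, ?_, ?_⟩
  · apply hinj
    rw [map_zero]
    have h1 : algebraMap R T (f.eval a) =
        Polynomial.eval₂ (algebraMap R T) (algebraMap R T a) f :=
      (Polynomial.eval₂_at_apply (algebraMap R T) a).symm
    have h2 : algebraMap R T = (algebraMap S₀ T).comp (AdjoinRoot.of f) := by
      ext r; exact (hofT r).symm
    rw [h1, ha, h2, ← Polynomial.hom_eval₂, AdjoinRoot.eval₂_root, map_zero]
  · rw [← residue_eq_zero_iff]
    have h3 : algebraMap R T (a - a₀) ∈ I := by
      rw [map_sub, ha, ← hofT, ← map_sub]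
      exact hroot
    have h4 := hIχ h3
    rw [RingHom.mem_ker, ← hofT, hχalg, hχ₀of] at h4
    exact h4

end Groth.Agent.H78.HensQF
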